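import Groth.Agent.UH57.Cl
import Groth.Prelude.Def_HTop2
import Mathlib.FieldTheory.PurelyInseparable.Exponent
import Mathlib.FieldTheory.IsAlgClosed.Basic
import Mathlib.FieldTheory.IsAlgClosed.AlgebraicClosure
import Mathlib.RingTheory.Ideal.Quotient.Operations

/-!
Residue field extensions elementwise, seminormal rings, extension of maps to algebraically closed fields.
-/

set_option autoImplicit false

universe u

namespace Groth.Agent.UHT95

variable {A B : Type u} [CommRing A] [CommRing B]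

theorem exists_frac (p : Ideal A) [p.IsPrime] (z : p.ResidueField) :
    ∃ a s : A, s ∉ p ∧ z * algebraMap A p.ResidueField s = algebraMap A p.ResidueField a := by
  obtain ⟨⟨a, ⟨s, hs⟩⟩, h⟩ := IsLocalization.surj (nonZeroDivisors (A ⧸ p)) z
  obtain ⟨a, rfl⟩ := Ideal.Quotient.mk_surjective a
  obtain ⟨s, rfl⟩ := Ideal.Quotient.mk_surjective s
  exact ⟨a, s, fun h => nonZeroDivisors.ne_zero hs (Ideal.Quotient.eq_zero_iff_mem.mpr h), h⟩

theorem mem_range_iff (f : A →+* B) (p : Ideal A) [p.IsPrime] (q : Ideal B) [q.IsPrime] (h : p = q.comap f)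
    (b : B) : algebraMap B q.ResidueField b ∈ Set.range (Ideal.ResidueField.map p q f h) ↔
      ∃ a s : A, f s ∉ q ∧ f s * b - f a ∈ q := by
  constructor
  · rintro ⟨z, hz⟩
    obtain ⟨a, s, hs, e⟩ := exists_frac p z
    refine ⟨a, s, fun hm => hs (h ▸ hm), ?_⟩
    rw [← Ideal.algebraMap_residueField_eq_zero, map_sub, map_mul, ← hz,
      ← Ideal.ResidueField.map_algebraMap p q f h, ← Ideal.ResidueField.map_algebraMap p q f h, ← map_mul,
      mul_comm, e, sub_self]
  · rintro ⟨a, s, hs, e⟩
    rw [← Ideal.algebraMap_residueField_eq_zero, map_sub, map_mul, sub_eq_zero] at e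
    refine ⟨algebraMap A p.ResidueField a / algebraMap A p.ResidueField s, ?_⟩
    rw [map_div₀, Ideal.ResidueField.map_algebraMap, Ideal.ResidueField.map_algebraMap, ← e,
      mul_div_cancel_left₀]
    rwa [ne_eq, Ideal.algebraMap_residueField_eq_zero]

theorem exists_extend [Algebra A B] [Algebra.IsIntegral A B] (hinj : Function.Injective (algebraMap A B))
    {L : Type u} [Field L] [IsAlgClosed L] (g : A →+* L) : ∃ ψ : B →+* L, ψ.comp (algebraMap A B) = g := by
  have : (RingHom.ker g).IsPrime := RingHom.ker_isPrime g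
  obtain ⟨q, -, hq, hqp⟩ := Ideal.exists_ideal_over_prime_of_isIntegral (S := B) (RingHom.ker g) ⊥ (by
    rw [← RingHom.ker_eq_comap_bot, (RingHom.injective_iff_ker_eq_bot _).mp hinj]; exact bot_le)
  have : q.LiesOver (RingHom.ker g) := ⟨hqp.symm⟩
  let _ : Algebra (A ⧸ RingHom.ker g) L := (RingHom.kerLift g).toAlgebra
  have : Module.IsTorsionFree (A ⧸ RingHom.ker g) L := Module.isTorsionFree_iff_algebraMap_injective.mpr (RingHom.kerLift_injective g)
  have : Module.IsTorsionFree (A ⧸ RingHom.ker g) (B ⧸ q) := Module.isTorsionFree_iff_algebraMap_injective.mpr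
    (FaithfulSMul.algebraMap_injective (A ⧸ RingHom.ker g) (B ⧸ q))
  have : Algebra.IsIntegral (A ⧸ RingHom.ker g) (B ⧸ q) := Algebra.IsIntegral.tower_top (R := A)
  let l : (B ⧸ q) →ₐ[A ⧸ RingHom.ker g] L := IsAlgClosed.lift
  refine ⟨l.toRingHom.comp (Ideal.Quotient.mk q), RingHom.ext fun a => ?_⟩
  exact l.commutes (Ideal.Quotient.mk _ a)

theorem hInj_subalgebra [Algebra A B] [Algebra.IsIntegral A B] (E : Subalgebra A B)
    (h : ∀ (L : Type u) [Field L] (g₁ g₂ : B →+* L), g₁.comp (algebraMap A B) = g₂.comp (algebraMap A B) →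
      ∀ e ∈ E, g₁ e = g₂ e) : UH57.HInj A E := by
  intro K _ g₁ g₂ e
  have : Algebra.IsIntegral E B := Algebra.IsIntegral.tower_top (R := A)
  obtain ⟨ψ₁, h₁⟩ := exists_extend (A := E) (B := B) Subtype.val_injective ((algebraMap K (AlgebraicClosure K)).comp g₁)
  obtain ⟨ψ₂, h₂⟩ := exists_extend (A := E) (B := B) Subtype.val_injective ((algebraMap K (AlgebraicClosure K)).comp g₂)
  refine RingHom.ext fun x => (algebraMap K (AlgebraicClosure K)).injective ?_
  refine ((DFunLike.congr_fun h₁ x).symm.trans ?_).trans (DFunLike.congr_fun h₂ x)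
  refine h _ ψ₁ ψ₂ (RingHom.ext fun a => ?_) x.1 x.2
  exact ((DFunLike.congr_fun h₁ (algebraMap A E a)).trans (congrArg (algebraMap K (AlgebraicClosure K))
    (DFunLike.congr_fun e a))).trans (DFunLike.congr_fun h₂ (algebraMap A E a)).symm

/-- Over a seminormal ring a reduced finite universal homeomorphism sees no new elements with trivial residues. -/
theorem mem_range_of_seminormal {C C' : Type u} [CommRing C] [CommRing C'] [IsReduced C'] [Algebra C C']
    (hC : HTop.IsSeminormalRing C) (hi : Algebra.IsIntegral C C') (hri : UH57.RI C C')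
    (hinj : Function.Injective (algebraMap C C')) (T : Subalgebra C C')
    (hT : ∀ y ∈ T, ∀ Q : Ideal C', Q.IsPrime → ∃ a s : C, algebraMap C C' s ∉ Q ∧
      algebraMap C C' s * y - algebraMap C C' a ∈ Q) {y : C'} (hy : y ∈ T) : ∃ c, algebraMap C C' c = y := by
  have hint : Algebra.IsIntegral C T := ⟨fun t => (isIntegral_algHom_iff T.val Subtype.val_injective).mp
    (hi.isIntegral t.1)⟩
  have hhom : UH57.HInj C T := hInj_subalgebra T fun L _ g₁ g₂ e x _ =>
    DFunLike.congr_fun (hri.hInj L g₁ g₂ e) x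
  have : Algebra.IsIntegral T C' := Algebra.IsIntegral.tower_top (R := C)
  have htr : UH57.TR C T := fun Q hQ t => by
    obtain ⟨Q', -, hQ', rfl⟩ := Ideal.exists_ideal_over_prime_of_isIntegral (S := C') Q ⊥ (by
      rw [← RingHom.ker_eq_comap_bot, (RingHom.injective_iff_ker_eq_bot (algebraMap T C')).mp Subtype.val_injective]
      exact bot_le)
    exact hT t.1 t.2 Q' hQ'
  have h := UH57.all_of_ri (hp := False) (Or.inr htr) hint (UH57.hInj_iff.mp hhom) ⟨y, hy⟩
  have key : ∀ t : T, UH57.InCl False C t → ∃ c, algebraMap C C' c = t.1 := by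
    intro t ht
    induction ht with
    | alg a => exact ⟨a, rfl⟩
    | add _ _ hx hy =>
      obtain ⟨a, ha⟩ := hx
      obtain ⟨b, hb⟩ := hy
      exact ⟨a + b, by rw [map_add, ha, hb]; rfl⟩
    | mul _ _ hx hy =>
      obtain ⟨a, ha⟩ := hx
      obtain ⟨b, hb⟩ := hy
      exact ⟨a * b, by rw [map_mul, ha, hb]; rfl⟩
    | @sq b _ _ hx hy =>
      obtain ⟨u, hu⟩ := hx
      obtain ⟨v, hv⟩ := hy
      have huv : u ^ 3 = v ^ 2 := hinj (by
        rw [map_pow, map_pow, hu, hv]
        change (b.1 ^ 2) ^ 3 = (b.1 ^ 3) ^ 2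
        ring)
      obtain ⟨a, ⟨ha2, ha3⟩, -⟩ := hC u v huv
      refine ⟨a, sub_eq_zero.mp (IsReduced.eq_zero _ ⟨3, ?_⟩)⟩
      have e2 : algebraMap C C' a ^ 2 = b.1 ^ 2 := by rw [← map_pow, ← ha2, hu]; rfl
      have e3 : algebraMap C C' a ^ 3 = b.1 ^ 3 := by rw [← map_pow, ← ha3, hv]; rfl
      linear_combination 4 * e3 - (3 * (algebraMap C C' a + b.1)) * e2
    | pr _ h _ _ _ => exact h.elim
  exact key _ h

theorem pow_finrank_mem_range {k K : Type u} [Field k] [Field K] [Algebra k K] [FiniteDimensional k K]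
    [IsPurelyInseparable k K] : ∃ n, Module.finrank k K = ringExpChar k ^ n ∧
      ∀ x : K, x ^ ringExpChar k ^ n ∈ (algebraMap k K).range := by
  obtain ⟨n, hn⟩ := IsPurelyInseparable.finrank_eq_pow K (ringExpChar k) (F := k)
  refine ⟨n, hn, fun x => ?_⟩
  have hle : ringExpChar k ^ IsPurelyInseparable.elemExponent k x ≤ ringExpChar k ^ n :=
    hn ▸ IsPurelyInseparable.minpoly_natDegree_eq k x ▸ minpoly.natDegree_le x
  have hx := IsPurelyInseparable.elemExponent_def k x
  rcases le_or_gt (IsPurelyInseparable.elemExponent k x) n with h | h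
  · rw [show n = IsPurelyInseparable.elemExponent k x + (n - IsPurelyInseparable.elemExponent k x) by omega,
      pow_add, pow_mul]
    exact pow_mem hx _
  · have : ringExpChar k ≤ 1 := by
      by_contra hgt
      exact absurd ((Nat.pow_le_pow_iff_right (by omega)).mp hle) (by omega)
    have hq : ringExpChar k = 1 := le_antisymm this (expChar_pos k _)
    rw [hq, one_pow] at hx ⊢
    exact hx

end Groth.Agent.UHT95
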